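import Mathlib
import Groth.Prelude.Def_W4c2conddiscmodels

/-! Continuants of Hirzebruch–Jung expansions and multiplicity vectors. -/

set_option autoImplicit false

namespace Groth.Agent.HJCont

/-- Numerator and denominator continuants. -/
def cont : List ℤ → ℤ × ℤ
  | [] => (1, 0)
  | b :: l => (b * (cont l).1 - (cont l).2, (cont l).1)

theorem cont_props : ∀ l : List ℤ, (∀ b ∈ l, 2 ≤ b) →
    0 ≤ (cont l).2 ∧ (cont l).2 < (cont l).1 ∧ IsCoprime (cont l).1 (cont l).2 ∧ HJFrac.hjVal l = (cont l).1 / (cont l).2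
  | [], _ => by simp [cont, HJFrac.hjVal, isCoprime_one_left]
  | b :: l, h => by
    obtain ⟨h0, h1, h2, h3⟩ := cont_props l fun x hx => h x (List.mem_cons_of_mem _ hx)
    have hb := h b List.mem_cons_self
    refine ⟨h0.trans h1.le, ?_, ?_, ?_⟩
    · show (cont l).1 < b * (cont l).1 - (cont l).2
      nlinarith
    · show IsCoprime (b * (cont l).1 - (cont l).2) (cont l).1
      rw [sub_eq_add_neg, add_comm]
      exact (h2.symm.neg_left).add_mul_right_left b
    · have hp : ((cont l).1 : ℚ) ≠ 0 := by exact_mod_cast (h0.trans_lt h1).ne'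
      show (b : ℚ) - (HJFrac.hjVal l)⁻¹ = ((b * (cont l).1 - (cont l).2 : ℤ) : ℚ) / ((cont l).1 : ℚ)
      rw [h3, inv_div]
      push_cast
      field_simp

theorem wronskian : ∀ (l : List ℤ) (μ : ℕ → ℤ),
    (∀ (j : ℕ) (hj : j < l.length), l[j] * μ (j + 1) = μ j + μ (j + 2)) →
    (cont l).1 * μ 1 - (cont l).2 * μ 0 = μ (l.length + 1)
  | [], μ, _ => by simp [cont]
  | b :: l, μ, h => by
    have ih := wronskian l (fun j => μ (j + 1)) fun j hj => h (j + 1) (by simp; omega)
    have h0 := h 0 (by simp)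
    simp only [List.getElem_cons_zero, zero_add] at h0
    simp only [zero_add] at ih
    show (b * (cont l).1 - (cont l).2) * μ 1 - (cont l).1 * μ 0 = μ (l.length + 1 + 1)
    linear_combination (cont l).1 * h0 + ih

theorem sum_eq : ∀ (l : List ℤ) (μ : ℕ → ℤ), (∀ b ∈ l, 2 ≤ b) → (∀ j, j ≤ l.length + 1 → 0 < μ j) →
    (∀ (j : ℕ) (hj : j < l.length), l[j] * μ (j + 1) = μ j + μ (j + 2)) →
    ∑ i ∈ Finset.range (l.length + 1), 1 / ((μ i : ℚ) * (μ (i + 1) : ℚ)) = (cont l).1 / ((μ 0 : ℚ) * μ (l.length + 1))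
  | [], μ, _, _, _ => by simp [cont]
  | b :: l, μ, hb, hpos, h => by
    have ih := sum_eq l (fun j => μ (j + 1)) (fun x hx => hb x (List.mem_cons_of_mem _ hx))
      (fun j hj => hpos _ (by simp; omega)) fun j hj => h (j + 1) (by simp; omega)
    simp only [zero_add] at ih
    have hw := congrArg (fun z : ℤ => (z : ℚ)) (wronskian (b :: l) μ h)
    simp only [cont, List.length_cons] at hw ⊢
    push_cast at hw ⊢
    rw [Finset.sum_range_succ', ih]
    have h0 : (μ 0 : ℚ) ≠ 0 := by exact_mod_cast (hpos 0 (by omega)).ne'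
    have h1 : (μ 1 : ℚ) ≠ 0 := by exact_mod_cast (hpos 1 (by simp)).ne'
    have h2 : (μ (l.length + 1 + 1) : ℚ) ≠ 0 := by exact_mod_cast (hpos (l.length + 1 + 1) (by simp)).ne'
    simp only [zero_add]
    field_simp
    linear_combination -hw

theorem list_data (l : ℕ) (b μ : ℕ → ℤ) (hb : ∀ i, 1 ≤ i → i ≤ l → 2 ≤ b i)
    (hsys : ∀ i, 1 ≤ i → i ≤ l → b i * μ i = μ (i - 1) + μ (i + 1)) :
    (∀ x ∈ (List.range l).map (fun i => b (i + 1)), 2 ≤ x) ∧
    (∀ (j : ℕ) (hj : j < ((List.range l).map fun i => b (i + 1)).length),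
      ((List.range l).map fun i => b (i + 1))[j] * μ (j + 1) = μ j + μ (j + 2)) := by
  refine ⟨fun x hx => ?_, fun j hj => ?_⟩
  · obtain ⟨i, hi, rfl⟩ := List.mem_map.1 hx
    exact hb _ (by omega) (by rw [List.mem_range] at hi; omega)
  · simp only [List.length_map, List.length_range] at hj
    simpa using hsys (j + 1) (by omega) (by omega)

theorem cont_eq (L : List ℤ) (hL : ∀ x ∈ L, 2 ≤ x) (n r : ℕ) (hn : 0 < n) (hr : 0 < r) (hcop : Nat.Coprime r n)
    (h : (n : ℚ) / r = HJFrac.hjVal L) : (cont L).1 = n ∧ (cont L).2 = r := by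
  obtain ⟨h0, h1, h2, h3⟩ := cont_props L hL
  rw [h3] at h
  have hq : (cont L).2 ≠ 0 := fun hq => by
    rw [hq, Int.cast_zero, div_zero, div_eq_zero_iff] at h
    rcases h with h | h <;> norm_cast at h <;> omega
  have hx : (n : ℤ) * (cont L).2 = (cont L).1 * r := by
    rw [div_eq_div_iff (by exact_mod_cast hr.ne') (by exact_mod_cast hq)] at h
    exact_mod_cast h
  have hcop' : IsCoprime (r : ℤ) n := Nat.isCoprime_iff_coprime.2 hcop
  have e2 : (cont L).2 = r := Int.dvd_antisymm h0 (by positivity)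
    (h2.symm.dvd_of_dvd_mul_left ⟨n, by linear_combination -hx⟩)
    (hcop'.dvd_of_dvd_mul_left ⟨(cont L).1, by linear_combination hx⟩)
  refine ⟨?_, e2⟩
  rw [e2] at hx
  exact (mul_right_cancel₀ (by positivity : (r : ℤ) ≠ 0) hx).symm

end Groth.Agent.HJCont
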